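import Mathlib.AlgebraicGeometry.AffineSpace
import Mathlib.AlgebraicGeometry.Morphisms.ClosedImmersion
import Mathlib.AlgebraicGeometry.Morphisms.FiniteType

/-!
# An affine morphism of finite type to an affine scheme embeds in an affine space
-/

set_option autoImplicit false
universe u
open CategoryTheory CategoryTheory.Limits AlgebraicGeometry Opposite

namespace Groth.Agent.Etbc.H215.AffEmb

theorem exists_closedImmersion {S X : Scheme.{u}} [IsAffine S] (f : X ⟶ S) [IsAffineHom f]
    [LocallyOfFiniteType f] :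
    ∃ (n : ℕ) (j : X ⟶ 𝔸(ULift.{u} (Fin n); S)), IsClosedImmersion j ∧
      j ≫ (𝔸(ULift.{u} (Fin n); S) ↘ S) = f := by
  have hX : IsAffine X := isAffine_of_isAffineHom f
  have hft : f.appTop.hom.FiniteType :=
    (HasRingHomProperty.iff_of_isAffine (P := @LocallyOfFiniteType)).mp inferInstance
  let _ : Algebra Γ(S, ⊤) Γ(X, ⊤) := f.appTop.hom.toAlgebra
  have hft' : Algebra.FiniteType Γ(S, ⊤) Γ(X, ⊤) := hft
  obtain ⟨n, φ, hφ⟩ := Algebra.FiniteType.iff_quotient_mvPolynomial''.1 hft'
  let v : ULift.{u} (Fin n) → Γ(X, ⊤) := fun i => φ (MvPolynomial.X i.down)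
  let j : X ⟶ 𝔸(ULift.{u} (Fin n); S) := AffineSpace.homOfVector f v
  let pr : 𝔸(ULift.{u} (Fin n); S) ⟶ S := 𝔸(ULift.{u} (Fin n); S) ↘ S
  have hj : j ≫ pr = f := AffineSpace.homOfVector_over f v
  have hA : IsAffine 𝔸(ULift.{u} (Fin n); S) := isAffine_of_isAffineHom pr
  refine ⟨n, j, IsClosedImmersion.of_surjective_of_isAffine j ?_, hj⟩
  change Function.Surjective j.appTop.hom
  have h1 : ∀ r : Γ(S, ⊤), j.appTop.hom (pr.appTop.hom r) = algebraMap _ _ r := by
    intro r
    have h2 : pr.appTop ≫ j.appTop = f.appTop := by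
      rw [← Scheme.Hom.comp_appTop, hj]
    exact congrArg (fun t => t.hom r) h2
  let T : Subalgebra Γ(S, ⊤) Γ(X, ⊤) :=
    { j.appTop.hom.range with algebraMap_mem' := fun r => ⟨_, h1 r⟩ }
  have hT : T = ⊤ := by
    rw [← top_le_iff]
    intro z _
    obtain ⟨p, rfl⟩ := hφ z
    induction p using MvPolynomial.induction_on with
    | C a => 
      rw [MvPolynomial.algHom_C]
      exact T.algebraMap_mem a
    | add p q hp hq => rw [map_add]; exact T.add_mem (hp trivial) (hq trivial)
    | mul_X p i hp =>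
      rw [map_mul]
      refine T.mul_mem (hp trivial) ?_
      exact ⟨AffineSpace.coord S (ULift.up i), AffineSpace.homOfVector_appTop_coord f v (ULift.up i)⟩
  intro z
  have : z ∈ T := hT ▸ Algebra.mem_top
  exact this

end Groth.Agent.Etbc.H215.AffEmb
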