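import Groth.Agent.CycB.TrdegAlg
import Groth.Agent.CycB.FlatAlg
import Groth.Agent.CalgB.RegDer
import Groth.Agent.CalgC.DimFT
import Groth.Agent.Hensel.EtaleNbhd
import Groth.Agent.Hensel.Exist
import Groth.Agent.EtpbcA.T2Fib
import Groth.Agent.S0539
import Groth.Agent.S0540
import Mathlib.RingTheory.EssentialFiniteness

/-!
# The dimension formula for the primes of a strict henselization

* `exists_dim_of_essFiniteType`: for a local domain `D` essentially of finite type over a field `k`,
  `trdeg_k D = dim D + trdeg_k κ(D)`.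
* `trd_le_of_isStrictHenselization`: for `A` local, essentially of finite type over `k`, `S` a strict
  henselization of `A` and every prime `P` of `S`: `trdeg_k (S/P) ≤ dim (S/P) + trdeg_k κ(A)`.
-/

set_option autoImplicit false
universe u
open IsLocalRing TensorProduct

namespace Groth.Agent.Etbc.H215.DimSH

open Groth.Agent.CycB.TrdegAlg

/-- Dimension formula for local domains essentially of finite type over a field. -/
theorem exists_dim_of_essFiniteType (k D : Type u) [Field k] [CommRing D] [IsDomain D]
    [IsLocalRing D] [Algebra k D] [Algebra.EssFiniteType k D] :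
    ∃ h t : ℕ, ringKrullDim D = h ∧ trd ((residue D).comp (algebraMap k D)) = t ∧
      trd (algebraMap k D) = ((h + t : ℕ) : Cardinal.{u}) := by
  let C := Algebra.EssFiniteType.subalgebra k D
  let q : Ideal C := (maximalIdeal D).comap (algebraMap C D)
  have hq : q.IsPrime := Ideal.IsPrime.comap _
  have hM : Algebra.EssFiniteType.submonoid k D = q.primeCompl := by
    ext x
    change IsUnit (algebraMap C D x) ↔ ¬ (algebraMap C D x ∈ maximalIdeal D)
    rw [mem_maximalIdeal, mem_nonunits_iff, not_not]
  have hloc : IsLocalization.AtPrime D q := by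
    have h1 : IsLocalization (Algebra.EssFiniteType.submonoid k D) D :=
      Algebra.EssFiniteType.isLocalization k D
    rw [hM] at h1
    exact h1
  have hCft : Algebra.FiniteType k C := inferInstance
  obtain ⟨d, hd1, hd2, -⟩ := Groth.Agent.CalgC.DimFT.exists_dim k C
  obtain ⟨e, he1, he2, -⟩ := Groth.Agent.CalgC.DimFT.exists_dim k (C ⧸ q)
  have h1 := Groth.Agent.CalgC.DimFT.height_add_ringKrullDim_quotient k C q
  have h2 := IsLocalization.AtPrime.ringKrullDim_eq_height q D
  rw [hd1, he1] at h1
  -- the height is finite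
  obtain ⟨h, hh⟩ : ∃ h : ℕ, q.height = h := by
    have : IsNoetherianRing C := Algebra.FiniteType.isNoetherianRing k C
    obtain ⟨h, hh⟩ := ENat.ne_top_iff_exists.mp (Ideal.height_ne_top_of_isPrime (I := q))
    exact ⟨h, hh.symm⟩
  rw [hh] at h1 h2
  have h3 : h + e = d := by exact_mod_cast h1
  refine ⟨h, e, ?_, ?_, ?_⟩
  · rw [h2]; rfl
  · -- `κ(D)` is the fraction field of `C/q`
    let ψ : C →+* ResidueField D := (residue D).comp (algebraMap C D)
    have hψ : RingHom.ker ψ = q := by
      ext x
      change residue D (algebraMap C D x) = 0 ↔ _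
      rw [residue_eq_zero_iff]
      rfl
    have hgen : FracGen ψ := by
      intro z
      obtain ⟨z, rfl⟩ := residue_surjective z
      obtain ⟨x, y, rfl⟩ := IsLocalization.exists_mk'_eq q.primeCompl z
      refine ⟨x, y, ?_, ?_⟩
      · have : IsUnit (algebraMap C D y) := IsLocalization.map_units D y
        exact (this.map (residue D)).ne_zero
      · change residue D _ * residue D _ = residue D _
        rw [← map_mul, IsLocalization.mk'_spec]
    have h4 := hgen.trd_kerLift
    have h5 : (residue D).comp (algebraMap k D) =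
        (RingHom.kerLift ψ).comp ((Ideal.Quotient.mk (RingHom.ker ψ)).comp (algebraMap k C)) := by
      ext x
      rfl
    have : (RingHom.ker ψ).IsPrime := RingHom.ker_isPrime ψ
    rw [h5, trd_comp' _ _ (RingHom.injective _) (RingHom.kerLift_injective ψ), h4, add_zero]
    have h6 : ∀ I : Ideal C, I = q → trd ((Ideal.Quotient.mk I).comp (algebraMap k C)) = e := by
      rintro _ rfl
      rw [← he2, ← trd_algebraMap]
      rfl
    exact h6 _ hψ
  · have h4 : trd (algebraMap C D) = 0 := by
      rw [trd_algebraMap]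
      have : Algebra.IsAlgebraic C D := IsLocalization.isAlgebraic _ q.primeCompl
      have : FaithfulSMul C D := (faithfulSMul_iff_algebraMap_injective C D).mpr Subtype.val_injective
      exact trdeg_eq_zero
    have h5 : algebraMap k D = (algebraMap C D).comp (algebraMap k C) := rfl
    rw [h5, trd_comp' _ _ (RingHom.injective _) Subtype.val_injective, h4, add_zero, trd_algebraMap, hd2, ← h3]

/-- Residue field extensions of a strict henselization are algebraic. -/
theorem isIntegral_residue (A S κ L : Type u) [CommRing A] [IsLocalRing A] [IsNoetherianRing A]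
    [CommRing S] [IsLocalRing S] [Algebra A S] [IsLocalHom (algebraMap A S)]
    [Hensel.IsStrictHenselization A S] [Field κ] [Field L] (α : A →+* κ) (hα : FracGen α)
    (σ : S →+* L) (hσ : FracGen σ) (θ : κ →+* L) (comm : θ.comp α = σ.comp (algebraMap A S)) :
    θ.IsIntegral := by
  let _ : Algebra A κ := α.toAlgebra
  have hκ : ∀ s : κ, ∃ x r : A, algebraMap A κ r ≠ 0 ∧ algebraMap A κ r * s = algebraMap A κ x := by
    intro s
    obtain ⟨a, b, hb, hab⟩ := hα s
    exact ⟨a, b, hb, by rw [mul_comm]; exact hab⟩
  obtain ⟨-, hint⟩ := Groth.Agent.EtpbcA.T2.alg_part A S κ (Field.toIsField κ) hκ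
  let _ : Algebra κ L := θ.toAlgebra
  let _ : Algebra A L := (σ.comp (algebraMap A S)).toAlgebra
  have : IsScalarTower A κ L := IsScalarTower.of_algebraMap_eq fun x =>
    (RingHom.congr_fun comm x).symm
  let σ' : S →ₐ[A] L := { σ with commutes' := fun r => rfl }
  let Ψ : κ ⊗[A] S →ₐ[κ] L := Algebra.TensorProduct.lift (Algebra.ofId κ L) σ' fun _ _ => mul_comm _ _
  have hΨ : ∀ s : S, IsIntegral κ (σ s) := by
    intro s
    have h1 : Ψ (1 ⊗ₜ s) = σ s := by
      simp only [Ψ, Algebra.TensorProduct.lift_tmul, map_one, one_mul]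
      rfl
    rw [← h1]
    exact (hint.isIntegral _).map Ψ
  intro z
  obtain ⟨a, b, hb, hab⟩ := hσ z
  have h1 : z = σ a * (σ b)⁻¹ := by rw [← hab, mul_assoc, mul_inv_cancel₀ hb, mul_one]
  rw [h1]
  exact (hΨ a).mul (hΨ b).inv

/-- The residue field of a strict henselization has the same transcendence degree. -/
theorem trd_residue (k A S : Type u) [Field k] [CommRing A] [IsLocalRing A]
    [CommRing S] [IsLocalRing S] [Algebra k A] [Algebra A S]
    [IsLocalHom (algebraMap A S)] [hS : Hensel.IsStrictHenselization A S] :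
    trd ((residue S).comp ((algebraMap A S).comp (algebraMap k A))) =
      trd ((residue A).comp (algebraMap k A)) := by
  have h1 : (residue S).comp ((algebraMap A S).comp (algebraMap k A)) =
      (algebraMap (ResidueField A) (ResidueField S)).comp ((residue A).comp (algebraMap k A)) := rfl
  have h2 : Algebra.IsAlgebraic (ResidueField A) (ResidueField S) := hS.isSepClosure.separable.isAlgebraic
  rw [h1, trd_comp, trd_algebraMap (K := ResidueField A) (L := ResidueField S), trdeg_eq_zero, add_zero]

/-- Local subrings of the strict henselization. -/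
theorem trd_residue_le {k A' S : Type u} [Field k] [CommRing A'] [IsLocalRing A'] [CommRing S]
    [IsLocalRing S] (ι : k →+* A') (φ : A' →+* S) [IsLocalHom φ] (P' : Ideal A')
    [IsLocalRing (A' ⧸ P')] :
    trd ((residue (A' ⧸ P')).comp ((Ideal.Quotient.mk P').comp ι)) ≤
      trd ((residue S).comp (φ.comp ι)) := by
  have h0 : IsLocalHom (Ideal.Quotient.mk P') := IsLocalHom.of_surjective _ Ideal.Quotient.mk_surjective
  have h1 : (residue (A' ⧸ P')).comp ((Ideal.Quotient.mk P').comp ι) =
      (ResidueField.map (Ideal.Quotient.mk P')).comp ((residue A').comp ι) := rfl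
  have h2 : Function.Surjective (ResidueField.map (Ideal.Quotient.mk P')) := by
    intro z
    obtain ⟨z, rfl⟩ := residue_surjective z
    obtain ⟨z, rfl⟩ := Ideal.Quotient.mk_surjective z
    exact ⟨residue A' z, rfl⟩
  have h3 : (residue S).comp (φ.comp ι) = (ResidueField.map φ).comp ((residue A').comp ι) := rfl
  rw [h1, trd_comp_surjective _ _ h2, h3, trd_comp]
  exact le_self_add

/-- The dimension inequality for the primes of a strict henselization. -/
theorem trd_le_of_isStrictHenselization (k A S : Type u) [Field k] [CommRing A] [IsLocalRing A]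
    [CommRing S] [IsLocalRing S] [Algebra k A] [Algebra.EssFiniteType k A] [Algebra A S]
    [IsLocalHom (algebraMap A S)] [hS : Hensel.IsStrictHenselization A S]
    (L : Type u) [Field L] (σ : S →+* L) (hσ : FracGen σ)
    (a : ℕ) (t : Cardinal.{u}) (ha : ringKrullDim (S ⧸ RingHom.ker σ) ≤ a)
    (ht : trd ((residue A).comp (algebraMap k A)) ≤ t) :
    trd (σ.comp ((algebraMap A S).comp (algebraMap k A))) ≤ a + t := by
  let P : Ideal S := RingHom.ker σ
  have hP : P.IsPrime := RingHom.ker_isPrime σ
  have hN : IsNoetherianRing A := Algebra.EssFiniteType.isNoetherianRing k A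
  have hNS : IsNoetherianRing S := (Groth.Agent.S0540.result A S).1 hN
  have hcov : Groth.Agent.Hensel.EtaleNbhd.IsEtaleCovered A S :=
    (Groth.Agent.Hensel.Exist.isHull_of_isStrictHenselization A S).exists_etale_finset
  have hff := Groth.Agent.S0539.result A S
  have hflat : Module.Flat A S := inferInstance
  obtain ⟨s, hs⟩ := (isNoetherianRing_iff_ideal_fg S).1 hNS P
  obtain ⟨A', _, _, _, φ, hess, _, _, _, hφloc, -, hsr, hfl⟩ :=
    Groth.Agent.Hensel.EtaleNbhd.exists_local A hcov s
  let _ : Algebra A' S := φ.toRingHom.toAlgebra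
  have hloc' : IsLocalHom (algebraMap A' S) := hφloc
  have hfl' : Module.Flat A' S := hfl inferInstance
  have t0 : IsScalarTower A A' S := IsScalarTower.of_algebraMap_eq fun x => (φ.commutes x).symm
  let _ : Algebra k A' := ((algebraMap A A').comp (algebraMap k A)).toAlgebra
  have t1 : IsScalarTower k A A' := IsScalarTower.of_algebraMap_eq fun _ => rfl
  have hess' : Algebra.EssFiniteType k A' := Algebra.EssFiniteType.comp k A A'
  have hN' : IsNoetherianRing A' := Algebra.EssFiniteType.isNoetherianRing k A'
  let P' : Ideal A' := P.comap (algebraMap A' S)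
  have hP' : P'.IsPrime := Ideal.IsPrime.comap _
  have hPP' : P'.map (algebraMap A' S) = P := by
    apply le_antisymm
    · exact Ideal.map_le_iff_le_comap.2 le_rfl
    · rw [← hs]
      refine Ideal.span_le.2 fun x hx => ?_
      obtain ⟨x', rfl⟩ := hsr hx
      refine Ideal.mem_map_of_mem (algebraMap A' S) ?_
      change φ x' ∈ P
      rw [← hs]
      exact Ideal.subset_span hx
  have l1 : IsLocalRing (A' ⧸ P') := Groth.Agent.CycB.FlatAlg.isLocalRing_quotient' P'
  have l2 : IsLocalRing (S ⧸ P'.map (algebraMap A' S)) :=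
    Groth.Agent.CycB.FlatAlg.isLocalRing_quotient P'
  have l3 := Groth.Agent.CycB.FlatAlg.isLocalHom_rel (B := S) P'
  have l4 := Groth.Agent.CycB.FlatAlg.flat_quotient (B := S) P'
  have hdim := Groth.Agent.CalgB.RegDer.ringKrullDim_le_of_flat (A := A' ⧸ P')
    (B := S ⧸ P'.map (algebraMap A' S))
  rw [hPP'] at hdim
  obtain ⟨h, e, h1, h2, h3⟩ := exists_dim_of_essFiniteType k (A' ⧸ P')
  rw [h1] at hdim
  have hha : h ≤ a := by exact_mod_cast hdim.trans ha
  -- the residue field of `A'`
  have he : (e : Cardinal.{u}) ≤ t := by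
    rw [← h2]
    refine (trd_residue_le (algebraMap k A') (algebraMap A' S) P').trans ?_
    have h4 : (algebraMap A' S).comp (algebraMap k A') = (algebraMap A S).comp (algebraMap k A) := by
      ext x
      exact φ.commutes _
    rw [h4, trd_residue k A S]
    exact ht
  -- the fraction field of `A/p`
  let p : Ideal A := P.comap (algebraMap A S)
  have hp : p.IsPrime := Ideal.IsPrime.comap _
  let κ := FractionRing (A ⧸ p)
  let α : A →+* κ := (algebraMap (A ⧸ p) κ).comp (Ideal.Quotient.mk p)
  have hα : FracGen α := by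
    intro z
    obtain ⟨x, y, hy, rfl⟩ := IsFractionRing.div_surjective (A := A ⧸ p) z
    obtain ⟨x, rfl⟩ := Ideal.Quotient.mk_surjective x
    obtain ⟨y, rfl⟩ := Ideal.Quotient.mk_surjective y
    have hy0 : algebraMap (A ⧸ p) κ (Ideal.Quotient.mk p y) ≠ 0 := by
      intro h
      exact nonZeroDivisors.ne_zero hy ((IsFractionRing.to_map_eq_zero_iff).1 h)
    exact ⟨x, y, hy0, div_mul_cancel₀ _ hy0⟩
  let θ₀ : A ⧸ p →+* L := Ideal.Quotient.lift p (σ.comp (algebraMap A S)) (fun x hx => hx)
  have hθ₀ : Function.Injective θ₀ := by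
    rw [injective_iff_map_eq_zero]
    intro x hx
    obtain ⟨x, rfl⟩ := Ideal.Quotient.mk_surjective x
    exact Ideal.Quotient.eq_zero_iff_mem.2 hx
  let θ : κ →+* L := IsFractionRing.lift (A := A ⧸ p) (K := κ) hθ₀
  have hθ : θ.comp α = σ.comp (algebraMap A S) := by
    ext x
    exact IsFractionRing.lift_algebraMap hθ₀ _
  have hint := isIntegral_residue A S κ L α hα σ hσ θ hθ
  have hθ0 : trd θ = 0 := by
    let _ := θ.toAlgebra
    have : Algebra.IsIntegral κ L := ⟨hint⟩
    exact trdeg_eq_zero
  have h5 : σ.comp ((algebraMap A S).comp (algebraMap k A)) = θ.comp (α.comp (algebraMap k A)) := by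
    rw [← RingHom.comp_assoc, ← hθ, RingHom.comp_assoc]
  -- `A/p → A'/P'`
  have hpP : p ≤ P'.comap (algebraMap A A') := by
    intro x hx
    change algebraMap A' S (algebraMap A A' x) ∈ P
    rw [← IsScalarTower.algebraMap_apply A A' S]
    exact hx
  let ρ : A ⧸ p →+* A' ⧸ P' := Ideal.quotientMap P' (algebraMap A A') hpP
  have hρ : Function.Injective ρ := by
    refine Ideal.quotientMap_injective' ?_
    intro x hx
    change algebraMap A' S (algebraMap A A' x) ∈ P at hx
    rw [← IsScalarTower.algebraMap_apply A A' S] at hx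
    exact hx
  have h6 : trd (algebraMap k (A' ⧸ P')) =
      trd ((Ideal.Quotient.mk p).comp (algebraMap k A)) + trd ρ := by
    rw [← trd_comp' _ _ (RingHom.injective _) hρ]
    rfl
  have h7 : trd (algebraMap (A ⧸ p) κ) = 0 := by
    rw [trd_algebraMap]
    have : Algebra.IsAlgebraic (A ⧸ p) κ := IsLocalization.isAlgebraic _ (nonZeroDivisors (A ⧸ p))
    exact trdeg_eq_zero
  have h8 : α.comp (algebraMap k A) =
      (algebraMap (A ⧸ p) κ).comp ((Ideal.Quotient.mk p).comp (algebraMap k A)) := rfl
  rw [h5, trd_comp, hθ0, add_zero, h8, trd_comp' _ _ (RingHom.injective _)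
    (IsFractionRing.injective (A ⧸ p) κ), h7, add_zero]
  calc trd ((Ideal.Quotient.mk p).comp (algebraMap k A))
      ≤ trd (algebraMap k (A' ⧸ P')) := by rw [h6]; exact le_self_add
    _ = ((h + e : ℕ) : Cardinal.{u}) := h3
    _ = (h : Cardinal.{u}) + e := by push_cast; rfl
    _ ≤ a + t := add_le_add (by exact_mod_cast hha) he

end Groth.Agent.Etbc.H215.DimSH
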