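import Groth.Agent.EtpbcA.SuppFilt
import Groth.Agent.EtpbcB.BCCalc
import Groth.Agent.Etrest.Site0

/-!
# The support of a direct image

`supp_push_subset`: for `p : X ⟶ Y` quasi-compact with `X` locally Noetherian and a subset `E` of `Y` stable
under specialization which contains the image of the support of `F`, the support of `p_* F` lies in `E`.
-/

set_option autoImplicit false
universe u
open CategoryTheory CategoryTheory.Limits AlgebraicGeometry Opposite TopologicalSpace

namespace Groth.Agent.Etbc.H215.SuppPush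

open Groth.Agent.CurvesA Groth.Agent.CurvesA.SkyPoint Groth.Agent.CurvesA.SubSheafEt
  Groth.Agent.Etbase.EtSections Groth.Agent.EtpbcA.Artin Groth.Agent.CurvesA.Punctual

theorem isNoetherian_bc {X Y : Scheme.{u}} (p : X ⟶ Y) [QuasiCompact p] [IsLocallyNoetherian X]
    (U : Y.Etale) [IsAffine U.left] : IsNoetherian ((EtCoh.bc p).obj U).left := by
  have h := EtpbcB.BCCalc.isPullback_pr p U
  have hqc : QuasiCompact (EtpbcB.BCCalc.pr p U) :=
    MorphismProperty.of_isPullback (P := @QuasiCompact) h.flip inferInstance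
  have : CompactSpace ((EtCoh.bc p).obj U).left :=
    QuasiCompact.compactSpace_of_compactSpace (EtpbcB.BCCalc.pr p U)
  have : AlgebraicGeometry.Etale ((EtCoh.bc p).obj U).hom := ((EtCoh.bc p).obj U).prop
  have : IsLocallyNoetherian ((Functor.fromPUnit X).obj ((EtCoh.bc p).obj U).right) :=
    ‹IsLocallyNoetherian X›
  have : IsLocallyNoetherian ((EtCoh.bc p).obj U).left :=
    LocallyOfFiniteType.isLocallyNoetherian ((EtCoh.bc p).obj U).hom
  exact {}

/-- The support of a direct image. -/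
theorem supp_push_subset {X Y : Scheme.{u}} (p : X ⟶ Y) [QuasiCompact p] [IsLocallyNoetherian X]
    (F : EtCoh.Ab X) {E : Set Y} (hE : ∀ x y : Y, x ⤳ y → x ∈ E → y ∈ E)
    (hF : ∀ z ∈ EtPBC.supp F, p z ∈ E) : EtPBC.supp ((EtCoh.push p).obj F) ⊆ E := by
  intro x hx
  by_contra hxE
  refine (not_mem_supp_iff _ x).2 ((vanAt_iff _ x).2 fun V s v hv => ?_) hx
  obtain ⟨U, k, hU, -, u, hu⟩ := Etrest.Site0.exists_affine V v
  rw [← hu, ← vanishesAt_map_iff]
  generalize ((EtCoh.push p).obj F).obj.map k.op s = s'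
  have hUx : U.hom u = x := by
    rw [← hv, ← hu, Etcore.Cover.hom_apply]
  have hN : IsNoetherian ((EtCoh.bc p).obj U).left := isNoetherian_bc p U
  let C : Set ((EtCoh.bc p).obj U).left := {z | ¬ VanishesAt F ((EtCoh.bc p).obj U) s' z}
  have hC : IsClosed C := by
    rw [← isOpen_compl_iff]
    convert isOpen_vanishesAt F ((EtCoh.bc p).obj U) s' using 1
    ext z
    simp [C]
  obtain ⟨Z, h1, h2, h3⟩ := EtpbcA.SuppFilt.exists_closed_of_noetherian
    (T := ((EtCoh.bc p).obj U).left) (S := U.left) (EtpbcB.BCCalc.pr p U)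
    (EtpbcB.BCCalc.pr p U).continuous hC (E := U.hom ⁻¹' E)
    (fun a b hab ha => hE _ _ (hab.map U.hom.continuous) ha) fun z hz => by
      have h4 : U.hom (EtpbcB.BCCalc.pr p U z) = p (((EtCoh.bc p).obj U).hom z) := by
        rw [← Scheme.Hom.comp_apply, EtpbcB.BCCalc.pr_hom, Scheme.Hom.comp_apply]
      change U.hom (EtpbcB.BCCalc.pr p U z) ∈ E
      rw [h4]
      refine hF _ ?_
      by_contra h
      exact hz ((vanAt_iff F _).1 ((not_mem_supp_iff F _).1 h) _ s' z rfl)
  let W : U.left.Opens := ⟨Zᶜ, h1.isOpen_compl⟩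
  have huW : u ∈ W := fun h => hxE (hUx ▸ h2 h)
  refine ⟨openSub U W, openSubι U W, ⟨u, huW⟩, rfl, ?_⟩
  change F.obj.map ((EtCoh.bc p).map (openSubι U W)).op s' = 0
  apply eq_zero_of_vanishesAt
  intro z
  rw [vanishesAt_map_iff]
  by_contra h
  have h5 := h3 _ h
  have h6 : EtpbcB.BCCalc.pr p U (((EtCoh.bc p).map (openSubι U W)).left z) =
      (openSubι U W).left (EtpbcB.BCCalc.pr p (openSub U W) z) := by
    rw [← Scheme.Hom.comp_apply, EtpbcB.BCCalc.bc_map_left_pr, Scheme.Hom.comp_apply]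
  rw [h6] at h5
  exact (EtpbcB.BCCalc.pr p (openSub U W) z).2 h5

end Groth.Agent.Etbc.H215.SuppPush
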