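import Groth.Agent.Etbc.H215.DimSH
import Groth.Agent.EtpbcA.ArtinTrdeg
import Groth.Prelude.Def_Hens2
import Mathlib.AlgebraicGeometry.Morphisms.FiniteType
import Mathlib.RingTheory.RingHom.EssFiniteType

/-!
# Transcendence degrees of the residue fields of a strict localization of an algebraic scheme

For `g : Y ⟶ Spec k` locally of finite type, `R` a strict henselization of `O_{Y,y}` and `P` a point of
`Spec R`: `trdeg_k κ(P) ≤ dim (R/P) + trdeg_k κ(y)`.
-/

set_option autoImplicit false
universe u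
open CategoryTheory CategoryTheory.Limits AlgebraicGeometry Opposite IsLocalRing

namespace Groth.Agent.Etbc.H215.TrdegSH

open Groth.Agent.CycB.TrdegAlg Groth.Agent.EtpbcA.Artin Groth.Agent.Etbc.H215.DimSH

theorem fracGen_of_surjectiveOnStalks {A L : Type u} [CommRing A] [Field L] (σ : A →+* L)
    (h : SurjectiveOnStalks (Spec.map (CommRingCat.ofHom σ))) : FracGen σ := by
  rw [SurjectiveOnStalks.Spec_iff] at h
  intro s
  obtain ⟨a, r, c, hc, hr, h⟩ := (RingHom.surjective_localRingHom_iff (⊥ : Ideal L)).1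
    (h ⊥ inferInstance) s
  have hc' : c ≠ 0 := by simpa using hc
  refine ⟨a, r, fun h0 => hr ((Submodule.mem_bot _).2 h0), ?_⟩
  apply mul_left_cancel₀ hc'
  rw [mul_comm s, ← mul_assoc]
  exact h

/-- A ring map to the residue field of a point, for affine schemes. -/
theorem exists_residue (R : Type u) [CommRing R] (P : Spec (CommRingCat.of R)) :
    ∃ σ : R →+* (Spec (CommRingCat.of R)).residueField P,
      Spec.map (CommRingCat.ofHom σ) = (Spec (CommRingCat.of R)).fromSpecResidueField P ∧
      FracGen σ ∧ RingHom.ker σ = P.asIdeal := by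
  let σ : R →+* (Spec (CommRingCat.of R)).residueField P :=
    (Spec.preimage ((Spec (CommRingCat.of R)).fromSpecResidueField P)).hom
  have hσ : Spec.map (CommRingCat.ofHom σ) = (Spec (CommRingCat.of R)).fromSpecResidueField P := by
    rw [CommRingCat.ofHom_hom, Spec.map_preimage]
  refine ⟨σ, hσ, ?_, ?_⟩
  · apply fracGen_of_surjectiveOnStalks
    rw [hσ]
    infer_instance
  · have h1 : (Spec (CommRingCat.of R)).fromSpecResidueField P
        (⊥ : PrimeSpectrum ((Spec (CommRingCat.of R)).residueField P)) = P :=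
      Scheme.fromSpecResidueField_apply _ _
    rw [← hσ] at h1
    have h2 : Ideal.comap σ ⊥ = P.asIdeal := congrArg PrimeSpectrum.asIdeal h1
    rw [← h2, RingHom.ker_eq_comap_bot]

theorem resTrdegLE_iff' {K : Type u} [Field K] {X : Scheme.{u}} (f : X ⟶ Spec (CommRingCat.of K)) (x : X)
    (a : ℕ) (φ : K →+* X.residueField x)
    (hφ : Spec.map (CommRingCat.ofHom φ) = X.fromSpecResidueField x ≫ f) :
    EtPBC.ResTrdegLE f x a ↔ trd φ ≤ a :=
  resTrdegLE_iff f x a φ hφ

/-- Transcendence degrees go down along a morphism. -/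
theorem resTrdegLE_of_comp {K : Type u} [Field K] {X W : Scheme.{u}} (f : X ⟶ Spec (CommRingCat.of K))
    (h : W ⟶ X) (w : W) (a : ℕ) (H : EtPBC.ResTrdegLE (h ≫ f) w a) :
    EtPBC.ResTrdegLE f (h w) a := by
  obtain ⟨φ, hφ⟩ := exists_resMap f (h w)
  have h2 : Spec.map (CommRingCat.ofHom ((h.residueFieldMap w).hom.comp φ)) =
      W.fromSpecResidueField w ≫ h ≫ f := by
    rw [← Category.assoc, ← Scheme.Hom.SpecMap_residueFieldMap_fromSpecResidueField, Category.assoc, ← hφ,
      ← Spec.map_comp]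
    rfl
  rw [resTrdegLE_iff' (h ≫ f) w a _ h2, trd_comp] at H
  rw [resTrdegLE_iff' f (h w) a φ hφ]
  exact le_self_add.trans H

theorem bijective_toStalk_field (K : Type u) [Field K] (s : Spec (CommRingCat.of K)) :
    Function.Bijective (StructureSheaf.toStalk K s).hom := by
  let _ : Algebra K ↑((Spec (CommRingCat.of K)).presheaf.stalk s) :=
    StructureSheaf.stalkAlgebra K s
  have : IsLocalization.AtPrime (↑((Spec (CommRingCat.of K)).presheaf.stalk s)) s.asIdeal :=
    StructureSheaf.IsLocalization.to_stalk K s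
  have h : ∀ x ∈ s.asIdeal.primeCompl, IsUnit x := by
    intro x hx
    rw [isUnit_iff_ne_zero]
    rintro rfl
    exact hx (Ideal.zero_mem _)
  exact (IsLocalization.atUnits K s.asIdeal.primeCompl h
    (S := ↑((Spec (CommRingCat.of K)).presheaf.stalk s))).bijective

/-- The structure map of a local ring of a scheme locally of finite type over a field. -/
theorem exists_stalkMap (k : Type u) [Field k] {Y : Scheme.{u}} (g : Y ⟶ Spec (CommRingCat.of k))
    [LocallyOfFiniteType g] (y : Y) :
    ∃ ρ : k →+* Y.presheaf.stalk y, ρ.EssFiniteType ∧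
      Spec.map (CommRingCat.ofHom ρ) = Y.fromSpecStalk y ≫ g := by
  have h1 : (g.stalkMap y).hom.EssFiniteType := LocallyOfFiniteType.stalkMap g y
  have h2 : Function.Bijective (StructureSheaf.toStalk k (g y)).hom := bijective_toStalk_field k (g y)
  refine ⟨(g.stalkMap y).hom.comp (StructureSheaf.toStalk k (g y)).hom, ?_, ?_⟩
  · refine RingHom.EssFiniteType.comp ?_ h1
    exact (RingHom.FiniteType.of_surjective _ h2.2).essFiniteType
  · rw [← Scheme.SpecMap_stalkMap_fromSpecStalk, Spec.fromSpecStalk_eq']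
    exact Spec.map_comp (StructureSheaf.toStalk k (g y)) (g.stalkMap y)

/-- The transcendence degree of `κ(y)/k` is finite. -/
theorem exists_trdeg (k : Type u) [Field k] {Y : Scheme.{u}} (g : Y ⟶ Spec (CommRingCat.of k))
    [LocallyOfFiniteType g] (y : Y) :
    ∃ t : ℕ, EtPBC.ResTrdegLE g y t ∧ ∀ b, EtPBC.ResTrdegLE g y b → t ≤ b := by
  obtain ⟨ρ, hess, hρ⟩ := exists_stalkMap k g y
  let _ : Algebra k (Y.presheaf.stalk y) := ρ.toAlgebra
  have hess' : Algebra.EssFiniteType k (Y.presheaf.stalk y) := hess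
  have h1 : Algebra.EssFiniteType k (ResidueField (Y.presheaf.stalk y)) := by
    have : Algebra.EssFiniteType (Y.presheaf.stalk y) (ResidueField (Y.presheaf.stalk y)) :=
      inferInstance
    exact Algebra.EssFiniteType.comp k (Y.presheaf.stalk y) _
  obtain ⟨h, t, -, -, h2⟩ := exists_dim_of_essFiniteType k (ResidueField (Y.presheaf.stalk y))
  have hφ : Spec.map (CommRingCat.ofHom ((residue (Y.presheaf.stalk y)).comp ρ)) =
      Y.fromSpecResidueField y ≫ g := by
    rw [CommRingCat.ofHom_comp, Spec.map_comp, hρ, ← Category.assoc]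
    rfl
  have h3 : trd ((residue (Y.presheaf.stalk y)).comp ρ) = ((h + t : ℕ) : Cardinal.{u}) := h2
  refine ⟨h + t, ?_, fun b hb => ?_⟩
  · rw [resTrdegLE_iff' g y _ _ hφ]
    exact h3.le
  · rw [resTrdegLE_iff' g y _ _ hφ] at hb
    have h4 := h3.ge.trans hb
    exact_mod_cast h4

/-- The transcendence degrees of the points of a scheme over a strict localization. -/
theorem resTrdegLE_of_strict (k : Type u) [Field k] {Y : Scheme.{u}}
    (g : Y ⟶ Spec (CommRingCat.of k)) [LocallyOfFiniteType g] (y : Y)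
    (R : Type u) [CommRing R] [IsLocalRing R] [Algebra (Y.presheaf.stalk y) R]
    [IsLocalHom (algebraMap (Y.presheaf.stalk y) R)]
    [Hensel.IsStrictHenselization (Y.presheaf.stalk y) R]
    {X' : Scheme.{u}} (f' : X' ⟶ Spec (CommRingCat.of R)) (x : X') (a b : ℕ)
    (ha : ringKrullDim (R ⧸ (f' x).asIdeal) ≤ a) (hb : trd (f'.residueFieldMap x).hom ≤ b)
    (t : ℕ) (ht : EtPBC.ResTrdegLE g y t) :
    EtPBC.ResTrdegLE (f' ≫ Hens2.specOf Y y R ≫ g) x (a + b + t) := by
  obtain ⟨ρ, hess, hρ⟩ := exists_stalkMap k g y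
  let _ : Algebra k (Y.presheaf.stalk y) := ρ.toAlgebra
  have hess' : Algebra.EssFiniteType k (Y.presheaf.stalk y) := hess
  obtain ⟨σ, hσ, hgen, hker⟩ := exists_residue R (f' x)
  have hφ : Spec.map (CommRingCat.ofHom ((residue (Y.presheaf.stalk y)).comp ρ)) =
      Y.fromSpecResidueField y ≫ g := by
    rw [CommRingCat.ofHom_comp, Spec.map_comp, hρ, ← Category.assoc]
    rfl
  rw [resTrdegLE_iff' g y _ _ hφ] at ht
  have h1 := trd_le_of_isStrictHenselization k (Y.presheaf.stalk y) R _ σ hgen a t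
    (by rw [hker]; exact ha) ht
  have h2 : Spec.map (CommRingCat.ofHom ((f'.residueFieldMap x).hom.comp
      (σ.comp ((algebraMap (Y.presheaf.stalk y) R).comp ρ)))) =
      X'.fromSpecResidueField x ≫ f' ≫ Hens2.specOf Y y R ≫ g := by
    rw [CommRingCat.ofHom_comp, CommRingCat.ofHom_comp, CommRingCat.ofHom_comp, Spec.map_comp,
      Spec.map_comp, Spec.map_comp, hρ, hσ, CommRingCat.ofHom_hom, Hens2.specOf]
    simp only [Category.assoc]
    rw [Scheme.Hom.SpecMap_residueFieldMap_fromSpecResidueField_assoc]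
  rw [resTrdegLE_iff' _ x _ _ h2, trd_comp]
  calc _ ≤ ((a : Cardinal.{u}) + t) + b := add_le_add h1 hb
    _ = ((a + b + t : ℕ) : Cardinal.{u}) := by
      push_cast
      rw [add_assoc, add_assoc, add_comm (t : Cardinal.{u})]

end Groth.Agent.Etbc.H215.TrdegSH
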