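import Groth.Agent.Etbc.H215.LimStalk
import Groth.Agent.Etbc.H215.TrdegSH
import Groth.Agent.Etbc.H215.SuppPush
import Groth.Agent.Etbc.H215.AffEmb
import Groth.Agent.EtpbcA.TrdegSpec
import Groth.Agent.EtpbcA.SuppClosed
import Groth.Agent.EtpbcA.RpushTors
import Groth.Agent.EtpbcA.ArtinMain

/-!
# The affine Lefschetz theorem over the strict localization of an algebraic scheme
-/

set_option autoImplicit false
universe u
open CategoryTheory CategoryTheory.Limits AlgebraicGeometry Opposite IsLocalRing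

namespace Groth.Agent.Etbc.H215.Lefschetz

open Groth.Agent.EtpbcB Groth.Agent.EtpbcB.StrictLoc Groth.Agent.Etrest.StrictLoc
  Groth.Agent.EtpbcA.Artin Groth.Agent.CycB.TrdegAlg

theorem toBase_closedPoint (Y : Scheme.{u}) (y : Y) (R : Type u) [CommRing R] [IsLocalRing R]
    [Algebra (Y.presheaf.stalk y) R] [IsLocalHom (algebraMap (Y.presheaf.stalk y) R)]
    [IsSepClosed (ResidueField R)] :
    toBase (Hens2.geomPt Y y R) (closedPoint (Osh (Hens2.geomPt Y y R))) = y := by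
  rw [← pt_default, ← Scheme.Hom.comp_apply, pt_toBase]
  change Hens2.specOf Y y R (resPt R _) = y
  rw [resPt_closedPoint]
  exact Groth.Agent.Etrest.VCBaseChange.specOf_closedPoint Y y R

variable (k : Type u) [Field k] {Y : Scheme.{u}} (g : Y ⟶ Spec (CommRingCat.of k))
  {Ω : Type u} [Field Ω] [IsSepClosed Ω] (ξ : Spec (CommRingCat.of Ω) ⟶ Y)

/-- Vanishing for affine morphisms to `Y`, over the strict localization at a geometric point. -/
theorem subsingleton_H_of_isPullback [LocallyOfFiniteType g] {X₀ : Scheme.{u}} (f : X₀ ⟶ Y)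
    [IsAffineHom f] [LocallyOfFiniteType f] {X Z : Scheme.{u}} {s : X ⟶ Spec (Osh ξ)} {a : X ⟶ X₀}
    (h : IsPullback a s f (toBase ξ)) (j : Z ⟶ X) [IsAffineHom j] [IsLocallyNoetherian Z]
    (F : EtCoh.Ab Z) (hF : EtCoh.IsTorsion F) (d t q : ℕ) (hq : d < q)
    (ht : ∀ b, EtPBC.ResTrdegLE g (toBase ξ (closedPoint (Osh ξ))) b → t ≤ b)
    (hd : ∀ z ∈ EtPBC.supp F, EtPBC.ResTrdegLE (j ≫ a ≫ f ≫ g) z (d + t)) :
    Subsingleton (EtCoh.H X ((EtCoh.push j).obj F) q) := by
  have hs : IsAffineHom s := MorphismProperty.of_isPullback (P := @IsAffineHom) h inferInstance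
  have hX : IsAffine X := isAffine_of_isAffineHom s
  refine LimStalk.subsingleton_H ξ f h _ q fun i => ?_
  have hp := BCCalc.isPullback_pr f ((D ξ).obj i)
  have h1 : IsAffineHom (BCCalc.pr f ((D ξ).obj i)) :=
    MorphismProperty.of_isPullback (P := @IsAffineHom) hp.flip inferInstance
  have h2 : LocallyOfFiniteType (BCCalc.pr f ((D ξ).obj i)) :=
    MorphismProperty.of_isPullback (P := @LocallyOfFiniteType) hp.flip inferInstance
  have h3 : AlgebraicGeometry.Etale ((D ξ).obj i).hom := ((D ξ).obj i).prop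
  have h4 : IsAffine ((EtCoh.bc f).obj ((D ξ).obj i)).left :=
    isAffine_of_isAffineHom (BCCalc.pr f ((D ξ).obj i))
  have h5 : QuasiCompact (legX ξ f h i) := inferInstance
  have h6 : QuasiCompact j := inferInstance
  have h7 : LocallyOfFiniteType (BCCalc.pr f ((D ξ).obj i) ≫ ((D ξ).obj i).hom ≫ g) := inferInstance
  refine not_mem_supp_Rpush_of_trdeg k (BCCalc.pr f ((D ξ).obj i) ≫ ((D ξ).obj i).hom ≫ g)
    (((D ξ).obj i).hom ≫ g) (BCCalc.pr f ((D ξ).obj i)) rfl (d + t) t q (by omega)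
    (leg ξ i (closedPoint (Osh ξ))) ?_ (fun m _ => PA_all m) _
    (Groth.Agent.EtpbcA.RpushTors.isTorsion_push _ _
      (Groth.Agent.EtpbcA.RpushTors.isTorsion_push _ _ hF)) ?_
  · intro b hb
    rw [resTrdegLE_comp_iff g ((D ξ).obj i).hom _ (algAt_of_etale _ _), ← Scheme.Hom.comp_apply,
      leg_hom] at hb
    exact ht b hb
  · have e : (EtCoh.push (legX ξ f h i)).obj ((EtCoh.push j).obj F) ≅
        (EtCoh.push (j ≫ legX ξ f h i)).obj F := (EtCoh.pushComp (legX ξ f h i) j).app F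
    rw [supp_congr e]
    refine SuppPush.supp_push_subset (j ≫ legX ξ f h i) F
      (E := {x | EtPBC.ResTrdegLE (BCCalc.pr f ((D ξ).obj i) ≫ ((D ξ).obj i).hom ≫ g) x (d + t)})
      (fun x x' hxx hx => resTrdegLE_of_specializes _ hxx hx) fun z hz => ?_
    refine TrdegSH.resTrdegLE_of_comp _ (j ≫ legX ξ f h i) z (d + t) ?_
    have e2 : (j ≫ legX ξ f h i) ≫ BCCalc.pr f ((D ξ).obj i) ≫ ((D ξ).obj i).hom ≫ g =
        j ≫ a ≫ f ≫ g := by
      rw [Category.assoc, legX_pr_assoc, leg_hom_assoc, ← Category.assoc s, ← h.w, Category.assoc]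
    rw [e2]
    exact hd z hz

/-- Affine Lefschetz over a strict localization. -/
theorem main [LocallyOfFiniteType g] (y : Y)
    (R : Type u) [CommRing R] [IsLocalRing R] [Algebra (Y.presheaf.stalk y) R]
    [IsLocalHom (algebraMap (Y.presheaf.stalk y) R)]
    [hS : Hensel.IsStrictHenselization (Y.presheaf.stalk y) R]
    (X' : Scheme.{u}) (f' : X' ⟶ Spec (CommRingCat.of R)) [IsAffineHom f'] [LocallyOfFiniteType f']
    (F : EtCoh.Ab X') (hF : EtCoh.IsTorsion F) (d : ℕ)
    (hδ : ∀ x ∈ EtPBC.supp F, ∃ a b : ℕ, ringKrullDim (R ⧸ (f' x).asIdeal) ≤ a ∧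
      trd (f'.residueFieldMap x).hom ≤ b ∧ a + b ≤ d)
    (q : ℕ) (hq : d < q) : Subsingleton (EtCoh.H X' F q) := by
  obtain ⟨t, ht1, ht2⟩ := TrdegSH.exists_trdeg k g y
  have hY : IsLocallyNoetherian Y := LocallyOfFiniteType.isLocallyNoetherian g
  have hNS : IsNoetherianRing (Y.presheaf.stalk y) := inferInstance
  have hNR : IsNoetherianRing R := (Groth.Agent.S0540.result (Y.presheaf.stalk y) R).1 hNS
  have hX' : IsLocallyNoetherian X' := LocallyOfFiniteType.isLocallyNoetherian f'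
  have hsc : IsSepClosed (ResidueField R) := hS.isSepClosure.sep_closed
  obtain ⟨n, j, hj, hjf⟩ := AffEmb.exists_closedImmersion f'
  obtain ⟨e, he, he'⟩ := Groth.Agent.S0620.exists_iso Y y R
  have h0 := AffineSpace.isPullback_map (n := ULift.{u} (Fin n)) (Hens2.specOf Y y R)
  have h1 : IsPullback (AffineSpace.map (ULift.{u} (Fin n)) (Hens2.specOf Y y R))
      ((𝔸(ULift.{u} (Fin n); Spec (CommRingCat.of R)) ↘ Spec (CommRingCat.of R)) ≫ e)
      (𝔸(ULift.{u} (Fin n); Y) ↘ Y) (toBase (Hens2.geomPt Y y R)) :=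
    IsPullback.of_iso h0 (Iso.refl _) (Iso.refl _) (asIso e) (Iso.refl _) (by simp) (by simp)
      (by simp) (by simp [he'])
  have hj' : IsAffineHom j := inferInstance
  refine (EtpbcA.CdExact.H_push_iff_of_isZero j F
    (fun p => EtpbcA.SuppClosed.isZero_Rpush j F p) q).1 ?_
  refine subsingleton_H_of_isPullback k g (Hens2.geomPt Y y R) (𝔸(ULift.{u} (Fin n); Y) ↘ Y) h1 j F hF
    d t q hq ?_ ?_
  · rw [toBase_closedPoint]
    exact ht2
  · intro z hz
    obtain ⟨a, b, ha, hb, hab⟩ := hδ z hz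
    have h2 := TrdegSH.resTrdegLE_of_strict k g y R f' z a b ha hb t ht1
    have h3 : j ≫ AffineSpace.map (ULift.{u} (Fin n)) (Hens2.specOf Y y R) ≫
        (𝔸(ULift.{u} (Fin n); Y) ↘ Y) ≫ g = f' ≫ Hens2.specOf Y y R ≫ g := by
      rw [← Category.assoc (AffineSpace.map _ _), h0.w, ← hjf]
      simp only [Category.assoc]
    rw [h3]
    exact resTrdegLE_mono _ z (by omega) h2

end Groth.Agent.Etbc.H215.Lefschetz
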