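import Groth.Agent.EtpbcA.CdColim
import Groth.Agent.EtpbcA.ArtinTransfer
import Groth.Agent.EtpbcB.OshHens
import Groth.Agent.Sga1.UlaSL
import Groth.Agent.S0099
import Groth.Agent.S0620

/-!
# Vanishing of cohomology over a strict localization through the étale neighbourhoods

For `f : X₀ ⟶ Y` qcqs, `ξ` a geometric point of `Y` and `X = X₀ ×_Y Spec O^sh`, with
`π_i : X ⟶ X₀ ×_Y D_i` the projections to the base changes to the affine étale neighbourhoods `D_i` of `ξ`:
`H^q(X, F) = 0` if for all `i` the image of the closed point in `D_i` is not in the support of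
`R^q (f_i)_* (π_i)_* F`.
-/

set_option autoImplicit false
universe u
open CategoryTheory CategoryTheory.Limits AlgebraicGeometry Opposite IsLocalRing

namespace Groth.Agent.Etbc.H215.LimStalk

open Groth.Agent.EtpbcB Groth.Agent.EtpbcB.StrictLoc Groth.Agent.Etrest.StrictLoc
  Groth.Agent.EtpbcA.CdBc Groth.Agent.EtpbcA.CdColim

section

variable {Y : Scheme.{u}} {Ω : Type u} [Field Ω] [IsSepClosed Ω] (ξ : Spec (CommRingCat.of Ω) ⟶ Y)

/-- The legs of the limit cone are strict localizations. -/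
theorem isStrictLoc_leg (i : Idx ξ) : @IsStrictLoc _ (Osh ξ) _ inferInstance (leg ξ i) := by
  have h := OshHens.isStrictLoc_toBase ξ
  have : AlgebraicGeometry.Etale ((D ξ).obj i).hom := ((D ξ).obj i).prop
  refine IsStrictLoc.of_comp ((D ξ).obj i).hom ?_
  rw [leg_hom]
  exact h

variable {X₀ : Scheme.{u}} (f : X₀ ⟶ Y) {X : Scheme.{u}} {s : X ⟶ Spec (Osh ξ)} {a : X ⟶ X₀}
  (h : IsPullback a s f (toBase ξ))

include h in
theorem isPullback_legX (i : Idx ξ) :
    IsPullback (legX ξ f h i) s (BCCalc.pr f ((D ξ).obj i)) (leg ξ i) := by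
  refine IsPullback.of_right ?_ (legX_pr ξ f h i) (BCCalc.isPullback_pr f ((D ξ).obj i)).flip
  rw [legX_hom, leg_hom]
  exact h

variable [QuasiCompact f] [QuasiSeparated f] (F : EtCoh.Ab X) (q : ℕ)

/-- One étale neighbourhood. -/
theorem subsingleton_H_phi (i : Idx ξ)
    (hi : leg ξ i (closedPoint (Osh ξ)) ∉ EtPBC.supp ((EtCoh.Rpush (BCCalc.pr f ((D ξ).obj i)) q).obj
      ((EtCoh.push (legX ξ f h i)).obj F))) :
    Subsingleton (EtCoh.H X (Phi (legX ξ f h i) F) q) := by
  have hp := BCCalc.isPullback_pr f ((D ξ).obj i)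
  have h1 : QuasiCompact (BCCalc.pr f ((D ξ).obj i)) :=
    MorphismProperty.of_isPullback (P := @QuasiCompact) hp.flip inferInstance
  have h2 : QuasiSeparated (BCCalc.pr f ((D ξ).obj i)) :=
    MorphismProperty.of_isPullback (P := @QuasiSeparated) hp.flip inferInstance
  obtain ⟨_, _, hR, hs⟩ := Groth.Agent.Sga1.UlaSL.exists_specOf (isStrictLoc_leg ξ i) _ rfl
  have h3 := (EtpbcA.Artin.not_mem_supp_Rpush_iff (BCCalc.pr f ((D ξ).obj i))
    ((EtCoh.push (legX ξ f h i)).obj F) q (leg ξ i (closedPoint (Osh ξ))) (Osh ξ)).1 hi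
  rw [hs] at h3
  exact (PBCVan.van_iff (isPullback_legX ξ f h i) _ q).1 h3

/-- Vanishing of cohomology over the strict localization. -/
theorem subsingleton_H
    (hi : ∀ i : Idx ξ, leg ξ i (closedPoint (Osh ξ)) ∉
      EtPBC.supp ((EtCoh.Rpush (BCCalc.pr f ((D ξ).obj i)) q).obj
        ((EtCoh.push (legX ξ f h i)).obj F))) :
    Subsingleton (EtCoh.H X F q) := by
  have h1 : QuasiCompact s := MorphismProperty.of_isPullback (P := @QuasiCompact) h inferInstance
  have h2 : QuasiSeparated s :=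
    MorphismProperty.of_isPullback (P := @QuasiSeparated) h inferInstance
  have h3 : CompactSpace X := QuasiCompact.compactSpace_of_compactSpace s
  have h4 : QuasiSeparatedSpace X := (quasiSeparated_iff_quasiSeparatedSpace s).mp inferInstance
  obtain ⟨hc⟩ := isColimit_phiCocone (DX ξ f) (coneX ξ f h) F (isLimitConeX ξ f h)
  have h5 : PreservesColimitsOfShape (Idx ξ)ᵒᵖ (EtCoh.HF X q) := S0099.result X q (Idx ξ)ᵒᵖ
  have hc' := isColimitOfPreserves (EtCoh.HF X q) hc
  have hz : ∀ i, Subsingleton ((EtCoh.HF X q).obj ((phiD (DX ξ f) (coneX ξ f h) F).obj i)) :=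
    fun i => subsingleton_H_phi ξ f h F q i.unop (hi i.unop)
  have : IsZero ((EtCoh.HF X q).obj F) := by
    rw [IsZero.iff_id_eq_zero]
    refine hc'.hom_ext fun i => ?_
    exact (AddCommGrpCat.isZero_of_subsingleton ((EtCoh.HF X q).obj
      ((phiD (DX ξ f) (coneX ξ f h) F).obj i))).eq_of_src _ _
  exact AddCommGrpCat.subsingleton_of_isZero this

end

end Groth.Agent.Etbc.H215.LimStalk
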